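import Cfsg.Agent.H383.Dg.RedD
import Cfsg.Agent.S4124

/-!
# Reduction for S5734 (proportion of derangements) to almost simple groups (helper383)
-/

set_option autoImplicit false

namespace Cfsg.Agent.H383.Dg

open Cfsg.Agent.H851.Dg

universe u

/-- an automorphism of a finite non-solvable group has a nontrivial fixed point -/
theorem fix_of_not_solvable {T : Type u} [Group T] [Finite T] (hT : ¬ Group.IsSolvable T) : Fix T := by
  intro a
  by_contra hcon
  push Not at hcon
  apply hT
  have hf : FaithfulSMul (Subgroup.zpowers a) T := ⟨fun {x y} h => by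
    apply Subtype.ext
    ext t
    exact h t⟩
  refine Cfsg.Agent.S4124.result (G := T) (A := Subgroup.zpowers a) ?_ ?_
  · have hc : IsMulCommutative (Subgroup.zpowers a) := inferInstance
    exact ⟨1, by
      rw [Subgroup.upperCentralSeries_one, Subgroup.eq_top_iff']
      intro x
      exact Subgroup.mem_center_iff.2 fun y => hc.is_comm.comm y x⟩
  · intro g hg
    by_contra hg1
    exact hcon g hg1 (hg ⟨a, Subgroup.mem_zpowers a⟩)

/-- **Reduction theorem** for S5734. -/
theorem reduction {c : ℝ} (hc : 0 < c)
    (hrow : ∀ (T : Type u) [Group T] [Finite T] [IsSimpleGroup T], (∃ a b : T, a * b ≠ b * a) → Row c T) :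
    ∃ ε : ℝ, 0 < ε ∧ ∀ (G : Type u) [Group G] [Finite G] (A : Subgroup G), IsCoatom A → A.normalCore = ⊥ →
      (∀ N : Subgroup G, N.Normal → IsMulCommutative N → N = ⊥) → ε * (Nat.card G : ℝ) ≤ Real.log A.index * nd A :=
  reduction_of_fix (fun _ _ _ hT => fix_of_not_solvable hT) hc hrow

end Cfsg.Agent.H383.Dg
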