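import Cfsg.Agent.H717.SimsRed
import Cfsg.Agent.H851.Dg.Defs

/-!
# Reduction for S5734 (proportion of derangements), part A: counting lemmas, the regular case (helper383)
-/

set_option autoImplicit false

namespace Cfsg.Agent.H383.Dg

open Cfsg.Agent.H851.Sims Cfsg.Agent.H717.Sims Cfsg.Agent.H851.Dg

/-- every automorphism has a nontrivial fixed point -/
def Fix (T : Type*) [Group T] : Prop := ∀ a : MulAut T, ∃ t : T, t ≠ 1 ∧ a t = t

section general

variable {G : Type*} [Group G] [Finite G]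

theorem two_mul_card_range {β : Type*} (f : G → β) (C : Subgroup G) (hf : ∀ u, ∀ z ∈ C, f (u * z) = f u)
    (hC : C ≠ ⊥) : 2 * Nat.card (Set.range f) ≤ Nat.card G := by
  have h1 : Nat.card (Set.range f) ≤ Nat.card (G ⧸ C) := by
    let F : G ⧸ C → Set.range f := fun q => ⟨f q.out, q.out, rfl⟩
    have hF : Function.Surjective F := by
      rintro ⟨_, x, rfl⟩
      refine ⟨QuotientGroup.mk x, Subtype.ext ?_⟩
      obtain ⟨k, hk⟩ := QuotientGroup.mk_out_eq_mul C x
      change f (Quotient.out _) = f x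
      rw [hk, hf x k k.2]
    exact Nat.card_le_card_of_surjective F hF
  have h2 : 2 ≤ Nat.card C := by
    have h3 : Nat.card C ≠ 1 := fun h => hC (Subgroup.card_eq_one.1 h)
    have h4 := Nat.card_pos (α := C)
    omega
  calc 2 * Nat.card (Set.range f) ≤ Nat.card C * Nat.card (G ⧸ C) := Nat.mul_le_mul h2 h1
    _ = Nat.card G := C.card_mul_index

theorem card_add_nd (A : Subgroup G) : Nat.card {x : G // ∃ g : G, g * x * g⁻¹ ∈ A} + nd A = Nat.card G := by
  classical
  have h1 : nd A = Nat.card {x : G // ¬ ∃ g : G, g * x * g⁻¹ ∈ A} := by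
    refine Nat.card_congr (Equiv.subtypeEquivRight fun x => ?_)
    push Not
    rfl
  rw [h1, ← Nat.card_sum]
  exact Nat.card_congr (Equiv.sumCompl _)

/-- the regular case -/
theorem regular_case {A N : Subgroup G} [hN : N.Normal] (hNA : N ⊔ A = ⊤) (hdis : N ⊓ A = ⊥) (hfix : Fix N) :
    Nat.card G ≤ 2 * nd A := by
  classical
  let _ : Fintype A := Fintype.ofFinite A
  let f : A → N → G := fun a n => n * a * (n : G)⁻¹
  have hf : ∀ a : A, 2 * Nat.card (Set.range (f a)) ≤ Nat.card N := by
    intro a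
    obtain ⟨z, hz1, hz⟩ := hfix (MulAut.conjNormal (a : G))
    refine two_mul_card_range (f a) (Subgroup.zpowers z) ?_ (by rwa [Ne, Subgroup.zpowers_eq_bot])
    rintro u _ ⟨k, rfl⟩
    have h0 : (a : G) * (z : G) * (a : G)⁻¹ = z := by
      have := congrArg Subtype.val hz
      rwa [MulAut.conjNormal_apply] at this
    have hc : Commute (z : G) (a : G) := by
      change (z : G) * a = a * z
      conv_lhs => rw [← h0]
      group
    have hck : ((z : G) ^ k) * a = a * (z : G) ^ k := (hc.zpow_left k).eq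
    change ((u * z ^ k : N) : G) * a * ((u * z ^ k : N) : G)⁻¹ = u * a * (u : G)⁻¹
    rw [Subgroup.coe_mul, Subgroup.coe_zpow]
    calc (u : G) * (z : G) ^ k * a * ((u : G) * (z : G) ^ k)⁻¹ = u * ((z : G) ^ k * a) * ((z : G) ^ k)⁻¹ * (u : G)⁻¹ := by
          group
      _ = u * a * (u : G)⁻¹ := by rw [hck]; group
  have hS : 2 * Nat.card {x : G // ∃ g : G, g * x * g⁻¹ ∈ A} ≤ Nat.card G := by
    have h1 : Nat.card {x : G // ∃ g : G, g * x * g⁻¹ ∈ A} ≤ Nat.card (Σ a : A, Set.range (f a)) := by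
      let F : (Σ a : A, Set.range (f a)) → {x : G // ∃ g : G, g * x * g⁻¹ ∈ A} := fun p =>
        ⟨p.2.1, by
          obtain ⟨n, hn⟩ := p.2.2
          refine ⟨(n : G)⁻¹, ?_⟩
          rw [← hn]
          have : (n : G)⁻¹ * (n * p.1 * (n : G)⁻¹) * (n : G)⁻¹⁻¹ = p.1 := by group
          change (n : G)⁻¹ * (n * p.1 * (n : G)⁻¹) * (n : G)⁻¹⁻¹ ∈ A
          rw [this]; exact p.1.2⟩
      refine Nat.card_le_card_of_surjective F ?_
      rintro ⟨y, g, hg⟩
      have hg' : g⁻¹ ∈ N ⊔ A := by rw [hNA]; trivial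
      obtain ⟨n, hn, b, hb, hnb⟩ := Subgroup.mem_sup_of_normal_left.1 hg'
      refine ⟨⟨⟨b * (g * y * g⁻¹) * b⁻¹, A.mul_mem (A.mul_mem hb hg) (A.inv_mem hb)⟩, ⟨y, ⟨n, hn⟩, ?_⟩⟩, rfl⟩
      change n * (b * (g * y * g⁻¹) * b⁻¹) * n⁻¹ = y
      calc n * (b * (g * y * g⁻¹) * b⁻¹) * n⁻¹ = (n * b) * (g * y * g⁻¹) * (n * b)⁻¹ := by group
        _ = y := by rw [hnb]; group
    have h2 : 2 * Nat.card (Σ a : A, Set.range (f a)) ≤ Nat.card A * Nat.card N := by
      rw [Nat.card_sigma, Finset.mul_sum]
      calc ∑ a : A, 2 * Nat.card (Set.range (f a)) ≤ ∑ _a : A, Nat.card N := Finset.sum_le_sum fun a _ => hf a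
        _ = Nat.card A * Nat.card N := by
          rw [Finset.sum_const, Finset.card_univ, smul_eq_mul, Nat.card_eq_fintype_card (α := A)]
    have h3 : Nat.card A * Nat.card N ≤ Nat.card G := by
      rw [← Nat.card_prod]
      refine Nat.card_le_card_of_injective _ (Subgroup.mul_injective_of_disjoint (H₁ := A) (H₂ := N) ?_)
      rw [disjoint_iff, inf_comm]; exact hdis
    omega
  have := card_add_nd A
  omega

theorem relIndex_mul_card' {H K : Subgroup G} (h : H ≤ K) : H.relIndex K * Nat.card H = Nat.card K := by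
  have h1 := (H.subgroupOf K).index_mul_card
  rwa [Nat.card_congr (Subgroup.subgroupOfEquivOfLe h).toEquiv] at h1

/-- index and intersection -/
theorem card_le_index_mul (A N : Subgroup G) : Nat.card N ≤ A.index * Nat.card (N ⊓ A : Subgroup G) := by
  have h1 : A.relIndex N ≤ A.index := by
    rw [← Subgroup.relIndex_top_right]
    refine Subgroup.relIndex_le_of_le_right le_top ?_
    rw [Subgroup.relIndex_top_right]
    exact Subgroup.index_ne_zero_of_finite
  have h2 : A.relIndex N * Nat.card (N ⊓ A : Subgroup G) = Nat.card N := by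
    rw [← Subgroup.inf_relIndex_left]
    exact relIndex_mul_card' inf_le_left
  calc Nat.card N = A.relIndex N * Nat.card (N ⊓ A : Subgroup G) := h2.symm
    _ ≤ A.index * Nat.card (N ⊓ A : Subgroup G) := Nat.mul_le_mul_right _ h1

/-- index and intersection, normal supplement -/
theorem index_mul_card {A S : Subgroup G} [hS : S.Normal] (h : S ⊔ A = ⊤) :
    A.index * Nat.card (A ⊓ S : Subgroup G) = Nat.card S := by
  have h1 : S.relIndex (A ⊔ S) = S.relIndex A := Subgroup.relIndex_sup_right A S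
  rw [sup_comm, h, Subgroup.relIndex_top_right] at h1
  have h2 : S.relIndex A * Nat.card (A ⊓ S : Subgroup G) = Nat.card A := by
    rw [← Subgroup.inf_relIndex_left]
    exact relIndex_mul_card' inf_le_left
  have h3 := S.index_mul_card
  have h4 := A.index_mul_card
  have hA : 0 < Nat.card A := Nat.card_pos
  have h5 : Nat.card A * (A.index * Nat.card (A ⊓ S : Subgroup G)) = Nat.card A * Nat.card S := by
    calc Nat.card A * (A.index * Nat.card (A ⊓ S : Subgroup G))
        = (A.index * Nat.card A) * Nat.card (A ⊓ S : Subgroup G) := by ring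
      _ = (S.index * Nat.card S) * Nat.card (A ⊓ S : Subgroup G) := by rw [h4, h3]
      _ = (S.relIndex A * Nat.card (A ⊓ S : Subgroup G)) * Nat.card S := by rw [h1]; ring
      _ = Nat.card A * Nat.card S := by rw [h2]
  exact Nat.eq_of_mul_eq_mul_left hA h5

omit [Finite G] in
/-- fibres of a surjective homomorphism -/
theorem card_preimage {X : Type*} [Group X] [Finite X] (φ : G →* X) (hφ : Function.Surjective φ) (D : Set X) :
    Nat.card {g : G // φ g ∈ D} * Nat.card X = Nat.card G * Nat.card D := by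
  classical
  choose s hs using hφ
  let e : ∀ D : Set X, {g : G // φ g ∈ D} ≃ D × φ.ker := fun D =>
    { toFun := fun g => (⟨φ g.1, g.2⟩, ⟨(s (φ g.1))⁻¹ * g.1, by
        rw [MonoidHom.mem_ker, map_mul, map_inv, hs, inv_mul_cancel]⟩)
      invFun := fun p => ⟨s p.1.1 * p.2.1, by
        have h1 : φ (p.2.1) = 1 := p.2.2
        rw [map_mul, hs, h1, mul_one]; exact p.1.2⟩
      left_inv := fun g => Subtype.ext (by
        change s (φ g.1) * ((s (φ g.1))⁻¹ * g.1) = g.1
        group)
      right_inv := by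
        rintro ⟨⟨d, hd⟩, ⟨k, hk⟩⟩
        have h1 : φ k = 1 := hk
        have h2 : φ (s d * k) = d := by rw [map_mul, hs, h1, mul_one]
        refine Prod.ext (Subtype.ext h2) (Subtype.ext ?_)
        change (s (φ (s d * k)))⁻¹ * (s d * k) = k
        rw [h2]; group }
  have h1 := Nat.card_congr (e D)
  have h2 := Nat.card_congr (e Set.univ)
  rw [Nat.card_prod] at h1 h2
  have h3 : Nat.card {g : G // φ g ∈ (Set.univ : Set X)} = Nat.card G :=
    Nat.card_congr (Equiv.subtypeUnivEquiv fun _ => Set.mem_univ _)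
  have h4 : Nat.card (Set.univ : Set X) = Nat.card X := Nat.card_congr (Equiv.Set.univ X)
  rw [h3, h4] at h2
  rw [h1, h2]
  ring

end general

end Cfsg.Agent.H383.Dg
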