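import Cfsg.Agent.H383.Dg.RedC

/-!
# Reduction for S5734 (proportion of derangements), part D: the diagonal case, assembly (helper383)
-/

set_option autoImplicit false

namespace Cfsg.Agent.H383.Dg

open Cfsg.Agent.H851.Sims Cfsg.Agent.H717.Sims Cfsg.Agent.H851.Dg

universe u

section

variable {G : Type*} [Group G] [Finite G] {N : Subgroup G} {m : ℕ} {T : Fin m → Subgroup G} {pr : Fin m → G → G}

omit [Finite G] in
theorem le_normalizer_T (h : Co N T pr) (i : Fin m) : N ≤ Subgroup.normalizer (T i : Set G) := by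
  intro n hn
  rw [Subgroup.mem_normalizer_iff]
  intro t
  refine ⟨fun ht => h.norm i n hn t ht, fun ht => ?_⟩
  have := h.norm i _ (N.inv_mem hn) _ ht
  have e : n⁻¹ * (n * t * n⁻¹) * n⁻¹⁻¹ = t := by group
  rwa [e] at this

/-- the counting in the diagonal case -/
theorem diag_nd [hN : N.Normal] (h : Co N T pr) {A : Subgroup G} (hNA : N ⊔ A = ⊤) {i₁ i₂ : Fin m}
    (h12 : i₁ ≠ i₂) (θ : T i₁ ≃* T i₂)
    (hθ : ∀ (x : G) (hx : x ∈ N ⊓ A), (θ ⟨pr i₁ x, h.mem i₁ x hx.1⟩ : G) = pr i₂ x)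
    (hD1 : ∀ t ∈ T i₁, ∃ x ∈ N ⊓ A, pr i₁ x = t) (hfix : Fix (T i₂)) :
    Nat.card G ≤ 2 * (m * nd A) := by
  classical
  set L : Subgroup G := Subgroup.normalizer (T i₁ : Set G) with hL
  have hTL : T i₂ ≤ L := (h.le i₂).trans (le_normalizer_T h i₁)
  let _ : Fintype L := Fintype.ofFinite L
  have h1 : ∀ g : L, 2 * Nat.card {t : T i₂ // ∃ k : G, k * ((t : G) * g) * k⁻¹ ∈ A} ≤ Nat.card (T i₂) :=
    fun g => diag_count h hNA h12 θ hθ hD1 hfix (mem_normalizer_iff_cjS.1 g.2)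
  have h2 : Nat.card (Σ g : L, {t : T i₂ // ∃ k : G, k * ((t : G) * g) * k⁻¹ ∈ A}) =
      Nat.card (T i₂) * Nat.card {x : L // ∃ k : G, k * x * k⁻¹ ∈ A} := by
    rw [← Nat.card_prod]
    refine Nat.card_congr
      { toFun := fun p => (p.2.1, ⟨⟨(p.2.1 : G) * p.1, L.mul_mem (hTL p.2.1.2) p.1.2⟩, p.2.2⟩)
        invFun := fun q => ⟨⟨(q.1 : G)⁻¹ * q.2.1, L.mul_mem (L.inv_mem (hTL q.1.2)) q.2.1.2⟩, ⟨q.1, by
          obtain ⟨k, hk⟩ := q.2.2
          refine ⟨k, ?_⟩
          have e : (q.1 : G) * ((q.1 : G)⁻¹ * q.2.1) = q.2.1 := by group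
          change k * ((q.1 : G) * ((q.1 : G)⁻¹ * q.2.1)) * k⁻¹ ∈ A
          rw [e]; exact hk⟩⟩
        left_inv := ?_
        right_inv := ?_ }
    · rintro ⟨g, ⟨t, ht⟩⟩
      have e : (⟨(t : G)⁻¹ * ((t : G) * g), L.mul_mem (L.inv_mem (hTL t.2)) (L.mul_mem (hTL t.2) g.2)⟩ : L) = g :=
        Subtype.ext (by
          change (t : G)⁻¹ * ((t : G) * g) = g
          group)
      refine Sigma.ext e ?_
      refine (Subtype.heq_iff_coe_eq ?_).2 rfl
      intro s
      change (∃ k : G, k * ((s : G) * ((t : G)⁻¹ * ((t : G) * g))) * k⁻¹ ∈ A) ↔ _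
      have e2 : (t : G)⁻¹ * ((t : G) * g) = g := by group
      rw [e2]
    · rintro ⟨t, ⟨x, hx⟩⟩
      refine Prod.ext rfl (Subtype.ext (Subtype.ext ?_))
      change (t : G) * ((t : G)⁻¹ * x) = x
      group
  have h3 : 2 * (Nat.card (T i₂) * Nat.card {x : L // ∃ k : G, k * x * k⁻¹ ∈ A}) ≤ Nat.card L * Nat.card (T i₂) := by
    rw [← h2, Nat.card_sigma, Finset.mul_sum]
    calc ∑ g : L, 2 * Nat.card {t : T i₂ // ∃ k : G, k * ((t : G) * g) * k⁻¹ ∈ A}
        ≤ ∑ _g : L, Nat.card (T i₂) := Finset.sum_le_sum fun g _ => h1 g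
      _ = Nat.card L * Nat.card (T i₂) := by
        rw [Finset.sum_const, Finset.card_univ, smul_eq_mul, Nat.card_eq_fintype_card (α := L)]
  have h4 : 2 * Nat.card {x : L // ∃ k : G, k * x * k⁻¹ ∈ A} ≤ Nat.card L := by
    have hpos : 0 < Nat.card (T i₂) := Nat.card_pos
    refine Nat.le_of_mul_le_mul_left ?_ hpos
    calc Nat.card (T i₂) * (2 * Nat.card {x : L // ∃ k : G, k * x * k⁻¹ ∈ A})
        = 2 * (Nat.card (T i₂) * Nat.card {x : L // ∃ k : G, k * x * k⁻¹ ∈ A}) := by ring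
      _ ≤ Nat.card L * Nat.card (T i₂) := h3
      _ = Nat.card (T i₂) * Nat.card L := Nat.mul_comm _ _
  have h5 : Nat.card {x : L // ∃ k : G, k * x * k⁻¹ ∈ A} + Nat.card {x : L // ¬ ∃ k : G, k * x * k⁻¹ ∈ A} =
      Nat.card L := by
    rw [← Nat.card_sum]
    exact Nat.card_congr (Equiv.sumCompl _)
  have h6 : Nat.card {x : L // ¬ ∃ k : G, k * x * k⁻¹ ∈ A} ≤ nd A := by
    refine Nat.card_le_card_of_injective (fun x => (⟨(x.1 : G), fun k hk => x.2 ⟨k, hk⟩⟩ :
      {x : G // ∀ g : G, g * x * g⁻¹ ∉ A})) ?_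
    intro x y hxy
    apply Subtype.ext
    apply Subtype.ext
    exact Subtype.mk.inj hxy
  have h7 := card_le_mul_normalizer h i₁
  rw [← hL] at h7
  calc Nat.card G ≤ m * Nat.card L := h7
    _ ≤ m * (2 * nd A) := Nat.mul_le_mul_left _ (by omega)
    _ = 2 * (m * nd A) := by ring

/-- the diagonal case -/
theorem diagonal_case [hN : N.Normal] (h : Co N T pr) {A : Subgroup G} (hA : A ≠ ⊤) (hNA : N ⊔ A = ⊤)
    (hD : ∀ i, ∀ t ∈ T i, ∃ x ∈ N ⊓ A, pr i x = t) (hfix : ∀ i, Fix (T i)) :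
    Nat.card G ≤ 2 * (m * nd A) ∧ 2 ^ m ≤ A.index ^ 2 := by
  classical
  let M' : Subgroup (∀ i, T i) :=
    { carrier := {f | ∃ x ∈ N ⊓ A, ∀ i, ((f i : T i) : G) = pr i x}
      one_mem' := ⟨1, (N ⊓ A).one_mem, fun i => by rw [h.one]; rfl⟩
      mul_mem' := by
        rintro f f' ⟨x, hx, hf⟩ ⟨y, hy, hf'⟩
        refine ⟨x * y, (N ⊓ A).mul_mem hx hy, fun i => ?_⟩
        rw [h.mul i x hx.1 y hy.1, ← hf i, ← hf' i]; rfl
      inv_mem' := by
        rintro f ⟨x, hx, hf⟩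
        refine ⟨x⁻¹, (N ⊓ A).inv_mem hx, fun i => ?_⟩
        rw [h.inv i hx.1, ← hf i]; rfl }
  have hmem : ∀ (x : G) (hx : x ∈ N ⊓ A), (fun i => (⟨pr i x, h.mem i x hx.1⟩ : T i)) ∈ M' := fun x hx =>
    ⟨x, hx, fun i => rfl⟩
  have hM'surj : ∀ i, ∀ t : T i, ∃ f ∈ M', f i = t := by
    intro i t
    obtain ⟨x, hx, hxt⟩ := hD i t t.2
    exact ⟨_, hmem x hx, Subtype.ext hxt⟩
  have hsimple := h.simple
  have hna : ∀ i, ∃ a b : T i, a * b ≠ b * a := by
    intro i
    obtain ⟨a, ha, b, hb, hab⟩ := h.nonab i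
    exact ⟨⟨a, ha⟩, ⟨b, hb⟩, fun h' => hab (congrArg Subtype.val h')⟩
  obtain ⟨c, φ, hcc, hciff, hφ, hM'⟩ := PermutationGroups.Subdirect.subdirect_structure hna M' hM'surj
  have hφ' : ∀ (x : G) (hx : x ∈ N ⊓ A) (i : Fin m), ((φ i ⟨pr (c i) x, h.mem (c i) x hx.1⟩ : T i) : G) = pr i x :=
    fun x hx i => congrArg Subtype.val (hφ _ (hmem x hx) i)
  have hNle : ¬ N ≤ A := by
    intro h'
    apply hA
    rw [← hNA, sup_eq_right.2 h']
  -- some block is not trivial
  obtain ⟨i₂, hi₂⟩ : ∃ i, c i ≠ i := by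
    by_contra hcon
    push Not at hcon
    apply hNle
    intro y hy
    have hf : (fun i => (⟨pr i y, h.mem i y hy⟩ : T i)) ∈ M' := by
      rw [hM']
      intro i
      obtain ⟨w, hw, hwi⟩ := hM'surj i ⟨pr i y, h.mem i y hy⟩
      have h1 : ∀ k, k = i → w k = ⟨pr k y, h.mem k y hy⟩ := by
        rintro k rfl; exact hwi
      have h2 := hφ w hw i
      rw [h1 (c i) (hcon i)] at h2
      change (⟨pr i y, h.mem i y hy⟩ : T i) = φ i ⟨pr (c i) y, h.mem (c i) y hy⟩
      rw [h2, hwi]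
    obtain ⟨x, hx, hx'⟩ := hf
    have : y = x := h.ext y hy x hx.1 fun i => hx' i
    rw [this]; exact hx.2
  refine ⟨diag_nd h hNA hi₂ (φ i₂) (fun x hx => hφ' x hx i₂) (hD (c i₂)) (hfix i₂), ?_⟩
  -- all blocks are not trivial
  have hσ : ∀ j, ∃ k, k ≠ j ∧ c k = c j := by
    intro j
    obtain ⟨a, ha, hj⟩ := h.transA hNA i₂ j
    obtain ⟨k, hk⟩ := h.conj a (c i₂)
    refine ⟨k, ?_, ?_⟩
    · intro hkj
      rw [hkj, hj] at hk
      exact hi₂ (h.inj (cjS_inj hk)).symm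
    · rw [hciff k j]
      rintro x ⟨y, hy, hxy⟩ hxj
      have hy' : a⁻¹ * y * a ∈ N ⊓ A := by
        have h1 := hN.conj_mem y hy.1 a⁻¹
        rw [inv_inv] at h1
        exact ⟨h1, A.mul_mem (A.mul_mem (A.inv_mem ha) hy.2) ha⟩
      have e : a * (a⁻¹ * y * a) * a⁻¹ = y := by group
      have h1 := h.pr_conj hj hy'.1
      rw [e, ← hxy j, hxj] at h1
      have h2 : pr i₂ (a⁻¹ * y * a) = 1 := by
        calc pr i₂ (a⁻¹ * y * a) = a⁻¹ * (a * pr i₂ (a⁻¹ * y * a) * a⁻¹) * a := by group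
          _ = 1 := by rw [← h1]; simp
      have h3 := (hciff (c i₂) i₂).1 (hcc i₂) _ (hmem _ hy') (Subtype.ext h2)
      have h4 : pr (c i₂) (a⁻¹ * y * a) = 1 := congrArg Subtype.val h3
      have h5 := h.pr_conj hk hy'.1
      rw [e, h4, ← hxy k] at h5
      apply Subtype.ext
      rw [h5]; simp
  choose σ hσ1 hσ2 using hσ
  have hcr : ∀ r : Set.range c, c (r : Fin m) = r := by
    rintro ⟨_, i, rfl⟩
    exact hcc i
  have hρ : 2 * Nat.card (Set.range c) ≤ m := by
    have h1 : Nat.card (Set.range c ⊕ Set.range c) ≤ Nat.card (Fin m) := by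
      refine Nat.card_le_card_of_injective (Sum.elim (fun r : Set.range c => (r : Fin m)) fun r => σ r) ?_
      intro p q hpq
      rcases p with p | p <;> rcases q with q | q
      · exact congrArg Sum.inl (Subtype.ext hpq)
      · exfalso
        change (p : Fin m) = σ q at hpq
        have h1 : (p : Fin m) = q := by rw [← hcr p, hpq, hσ2, hcr q]
        exact hσ1 q (by rw [← hpq, h1])
      · exfalso
        change σ p = (q : Fin m) at hpq
        have h1 : (q : Fin m) = p := by rw [← hcr q, ← hpq, hσ2, hcr p]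
        exact hσ1 p (by rw [hpq, h1])
      · change σ p = σ q at hpq
        refine congrArg Sum.inr (Subtype.ext ?_)
        rw [← hcr p, ← hσ2 p, hpq, hσ2, hcr q]
    rw [Nat.card_sum, Nat.card_fin] at h1
    omega
  let _ : Fintype (Set.range c) := Fintype.ofFinite _
  have hinf : Nat.card (N ⊓ A : Subgroup G) ≤ Nat.card (T i₂) ^ Nat.card (Set.range c) := by
    have h1 : Nat.card (N ⊓ A : Subgroup G) ≤ Nat.card (∀ r : Set.range c, T (r : Fin m)) := by
      refine Nat.card_le_card_of_injective (fun x : (N ⊓ A : Subgroup G) =>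
        (fun r => ⟨pr r x, h.mem r x x.2.1⟩ : ∀ r : Set.range c, T (r : Fin m))) ?_
      intro x y hxy
      apply Subtype.ext
      refine h.ext x x.2.1 y y.2.1 fun i => ?_
      have h2 : (⟨pr (c i) x, h.mem (c i) x x.2.1⟩ : T (c i)) = ⟨pr (c i) y, h.mem (c i) y y.2.1⟩ :=
        congrFun hxy ⟨c i, i, rfl⟩
      have h3 := hφ' x x.2 i
      have h4 := hφ' y y.2 i
      rw [h2] at h3
      rw [← h3]; exact h4
    rw [Nat.card_pi] at h1
    have h2 : ∏ r : Set.range c, Nat.card (T (r : Fin m)) = Nat.card (T i₂) ^ Nat.card (Set.range c) := by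
      rw [Finset.prod_congr rfl fun (r : Set.range c) _ => card_T h (r : Fin m) i₂, Finset.prod_const,
        Finset.card_univ, ← Nat.card_eq_fintype_card]
    rw [h2] at h1
    exact h1
  -- the index
  have h1 := card_le_index_mul A N
  have h2 := pow_le_card_N h i₂
  set t := Nat.card (T i₂) with ht
  set ρ := Nat.card (Set.range c) with hρdef
  have ht2 : 2 ≤ t := by
    have := (h.simple i₂).toNontrivial
    exact Finite.one_lt_card
  have h3 : t ^ m ≤ A.index * t ^ ρ := h2.trans (h1.trans (Nat.mul_le_mul_left _ hinf))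
  have h4 : t ^ m * t ^ m ≤ A.index ^ 2 * t ^ m := by
    calc t ^ m * t ^ m ≤ (A.index * t ^ ρ) * (A.index * t ^ ρ) := Nat.mul_le_mul h3 h3
      _ = A.index ^ 2 * t ^ (2 * ρ) := by ring
      _ ≤ A.index ^ 2 * t ^ m := Nat.mul_le_mul_left _ (Nat.pow_le_pow_right (by omega) hρ)
  have h5 : t ^ m ≤ A.index ^ 2 := Nat.le_of_mul_le_mul_right h4 (pow_pos (by omega) _)
  exact (Nat.pow_le_pow_left ht2 m).trans h5

end

/-- The reduction theorem, with the fixed-point hypothesis. -/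
theorem reduction_of_fix (hfix : ∀ (T : Type u) [Group T] [Finite T], ¬ Group.IsSolvable T → Fix T) {c : ℝ} (hc : 0 < c)
    (hrow : ∀ (T : Type u) [Group T] [Finite T] [IsSimpleGroup T], (∃ a b : T, a * b ≠ b * a) → Row c T) :
    ∃ ε : ℝ, 0 < ε ∧ ∀ (G : Type u) [Group G] [Finite G] (A : Subgroup G), IsCoatom A → A.normalCore = ⊥ →
      (∀ N : Subgroup G, N.Normal → IsMulCommutative N → N = ⊥) → ε * (Nat.card G : ℝ) ≤ Real.log A.index * nd A := by
  classical
  have hl2 : 0 < Real.log 2 := Real.log_pos (by norm_num)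
  refine ⟨min c (Real.log 2 / 4), lt_min hc (by positivity), ?_⟩
  intro G _ _ A hA hcore hab
  have hnt : Nontrivial G := by
    by_contra hcon
    rw [not_nontrivial_iff_subsingleton] at hcon
    exact hA.1 (Subsingleton.elim _ _)
  obtain ⟨N, hN, hNb, hmin⟩ := exists_minimal_normal G
  have hna : ¬ ∀ x ∈ N, ∀ y ∈ N, Commute x y := by
    intro h'
    apply hNb
    apply hab N hN
    exact ⟨⟨fun x y => Subtype.ext (h' x x.2 y y.2)⟩⟩
  have hNle : ¬ N ≤ A := by
    intro h'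
    apply hNb
    rw [eq_bot_iff, ← hcore]
    exact Subgroup.normal_le_normalCore.2 h'
  have hNA : N ⊔ A = ⊤ := by
    rw [sup_comm]
    apply hA.2
    exact lt_of_le_of_ne le_sup_left fun h' => hNle (by rw [h']; exact le_sup_right)
  obtain ⟨m, T, pr, hm, hco⟩ := exists_co N hmin hna
  have hTsol : ∀ i, ¬ Group.IsSolvable (T i) := by
    intro i hi
    have := hco.simple i
    obtain ⟨a, ha, b, hb, hab'⟩ := hco.nonab i
    have h1 := (IsSimpleGroup.comm_iff_isSolvable (G := T i)).2 hi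
    exact hab' (congrArg Subtype.val (h1 ⟨a, ha⟩ ⟨b, hb⟩))
  have hNsol : ¬ Group.IsSolvable N := by
    intro hs
    apply hTsol ⟨0, hm⟩
    exact Group.isSolvable_of_isSolvable_injective (Subgroup.inclusion_injective (hco.le ⟨0, hm⟩))
  have hidx2 : 2 ≤ A.index := by
    have h1 := Subgroup.index_ne_zero_of_finite (H := A)
    have h2 : A.index ≠ 1 := fun h' => hA.1 (Subgroup.index_eq_one.1 h')
    omega
  have hlogA : Real.log 2 ≤ Real.log A.index := Real.log_le_log (by norm_num) (by exact_mod_cast hidx2)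
  have hG0 : (0 : ℝ) ≤ Nat.card G := by positivity
  have hnd0 : (0 : ℝ) ≤ nd A := by positivity
  by_cases hNA' : N ⊓ A = ⊥
  · -- regular case
    have h1 := regular_case hNA hNA' (hfix N hNsol)
    have h2 : (Nat.card G : ℝ) ≤ 2 * nd A := by exact_mod_cast h1
    calc min c (Real.log 2 / 4) * (Nat.card G : ℝ) ≤ (Real.log 2 / 4) * Nat.card G :=
          mul_le_mul_of_nonneg_right (min_le_right _ _) hG0
      _ ≤ (Real.log 2 / 4) * (2 * nd A) := mul_le_mul_of_nonneg_left h2 (by positivity)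
      _ ≤ Real.log 2 * nd A := by nlinarith
      _ ≤ Real.log A.index * nd A := mul_le_mul_of_nonneg_right hlogA hnd0
  · rcases hco.dichotomy hA with hP | hD
    · have := hco.simple ⟨0, hm⟩
      have h1 := product_case hco hA hcore hNA hNA' hP ⟨0, hm⟩ hc.le (hrow (T ⟨0, hm⟩) (by
        obtain ⟨a, ha, b, hb, hab'⟩ := hco.nonab ⟨0, hm⟩
        exact ⟨⟨a, ha⟩, ⟨b, hb⟩, fun h' => hab' (congrArg Subtype.val h')⟩))
      calc min c (Real.log 2 / 4) * (Nat.card G : ℝ) ≤ c * Nat.card G :=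
            mul_le_mul_of_nonneg_right (min_le_left _ _) hG0
        _ ≤ Real.log A.index * nd A := h1
    · obtain ⟨h1, h2⟩ := diagonal_case hco hA.1 hNA hD fun i => hfix (T i) (hTsol i)
      have h3 : (Nat.card G : ℝ) ≤ 2 * (m * nd A) := by exact_mod_cast h1
      have h4 : (m : ℝ) * Real.log 2 ≤ 2 * Real.log A.index := by
        have h5 : Real.log ((2 : ℝ) ^ m) ≤ Real.log ((A.index : ℝ) ^ 2) :=
          Real.log_le_log (by positivity) (by exact_mod_cast h2)
        rw [Real.log_pow, Real.log_pow] at h5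
        exact_mod_cast h5
      calc min c (Real.log 2 / 4) * (Nat.card G : ℝ) ≤ (Real.log 2 / 4) * Nat.card G :=
            mul_le_mul_of_nonneg_right (min_le_right _ _) hG0
        _ ≤ (Real.log 2 / 4) * (2 * (m * nd A)) := mul_le_mul_of_nonneg_left h3 (by positivity)
        _ = (m * Real.log 2) * nd A / 2 := by ring
        _ ≤ (2 * Real.log A.index) * nd A / 2 := by
            have := mul_le_mul_of_nonneg_right h4 hnd0
            linarith
        _ = Real.log A.index * nd A := by ring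

end Cfsg.Agent.H383.Dg
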